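import Cfsg.Agent.DerivedBound.Main
import Cfsg.Agent.PCore.PSolvable

/-!
Subadditivity of the `p`-length, and the bound of one `p`-length by the other ones.
-/

set_option autoImplicit false
set_option linter.style.haveILetI false

namespace CfsgLib.PLengthProduct

open CfsgLib.PCore CfsgLib.PLocalBasics CfsgLib.DerivedBound

universe u

variable {p : ℕ}

theorem pow_mem_of_succ {G : Type u} [Group G] [Finite G] [Fact p.Prime] {n : ℕ} {x : G}
    (hx : x ∈ (Cfsg.upperPSeries p G (n + 1)).1) :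
    ∃ m : ℕ, x ^ m ∈ (Cfsg.upperPSeries p G n).1 ∧ (Even n → m.Coprime p) ∧ (¬ Even n → ∃ k, m = p ^ k) := by
  set U := (Cfsg.upperPSeries p G n).1 with hU
  by_cases hn : Even n
  · rw [upperPSeries_succ_even hn] at hx
    refine ⟨Nat.card (Cfsg.pPrimeCore p (G ⧸ U)), ?_, fun _ => pPrimeCore_coprime p _, fun h => absurd hn h⟩
    have h := orderOf_dvd_iff_pow_eq_one.1 (Subgroup.orderOf_dvd_natCard _ (Subgroup.mem_comap.1 hx))
    rw [← map_pow] at h
    exact (QuotientGroup.eq_one_iff _).1 h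
  · rw [upperPSeries_succ_odd hn] at hx
    obtain ⟨k, hk⟩ := isPGroup_pCore p (G ⧸ U) ⟨_, Subgroup.mem_comap.1 hx⟩
    refine ⟨p ^ k, ?_, fun h => absurd h hn, fun _ => ⟨k, rfl⟩⟩
    have h : (QuotientGroup.mk' U x) ^ (p ^ k) = 1 := congrArg Subtype.val hk
    rw [← map_pow] at h
    exact (QuotientGroup.eq_one_iff _).1 h

theorem le_upper_succ {G : Type u} [Group G] [Finite G] [hp : Fact p.Prime] {n : ℕ} {L : Subgroup G} (hL : L.Normal)
    (h : ∀ x ∈ L, ∃ m : ℕ, x ^ m ∈ (Cfsg.upperPSeries p G n).1 ∧ (Even n → m.Coprime p) ∧ (¬ Even n → ∃ k, m = p ^ k)) :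
    L ≤ (Cfsg.upperPSeries p G (n + 1)).1 := by
  set U := (Cfsg.upperPSeries p G n).1 with hU
  have hn' : (L.map (QuotientGroup.mk' U)).Normal := hL.map _ (QuotientGroup.mk'_surjective U)
  by_cases hn : Even n
  · rw [upperPSeries_succ_even hn, ← Subgroup.map_le_iff_le_comap]
    refine le_pPrimeCore_of_not_dvd hn' fun hd => ?_
    obtain ⟨⟨_, x, hx, rfl⟩, he⟩ := exists_prime_orderOf_dvd_card' p hd
    rw [← Subgroup.orderOf_coe] at he
    change orderOf (QuotientGroup.mk' U x) = p at he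
    obtain ⟨m, hm, hc, -⟩ := h x hx
    have h1 : orderOf (QuotientGroup.mk' U x) ∣ m := orderOf_dvd_of_pow_eq_one (by
      rw [← map_pow]; exact (QuotientGroup.eq_one_iff _).2 hm)
    rw [he] at h1
    exact hp.out.ne_one (Nat.eq_one_of_dvd_coprimes (hc hn) h1 dvd_rfl)
  · rw [upperPSeries_succ_odd hn, ← Subgroup.map_le_iff_le_comap]
    refine le_pCore hn' ?_
    rintro ⟨_, x, hx, rfl⟩
    obtain ⟨m, hm, -, hc⟩ := h x hx
    obtain ⟨k, rfl⟩ := hc hn
    refine ⟨k, Subtype.ext ?_⟩
    show (QuotientGroup.mk' U x) ^ (p ^ k) = 1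
    rw [← map_pow]
    exact (QuotientGroup.eq_one_iff _).2 hm

theorem le_upper_of_coprime_pow {G : Type u} [Group G] [Finite G] [Fact p.Prime] {a : ℕ} {L : Subgroup G} (hL : L.Normal)
    (h : ∀ x ∈ L, ∃ m : ℕ, m.Coprime p ∧ x ^ m ∈ (Cfsg.upperPSeries p G (2 * a + 1)).1) :
    L ≤ (Cfsg.upperPSeries p G (2 * a + 1)).1 := by
  refine le_upper_succ hL fun x hx => ?_
  obtain ⟨m, hm, hx'⟩ := h x hx
  obtain ⟨m', hm', hc, -⟩ := pow_mem_of_succ hx'
  have he : Even (2 * a) := even_two_mul a
  exact ⟨m * m', by rwa [pow_mul], fun _ => hm.mul_left (hc he), fun h => absurd he h⟩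

theorem upper_inf_le {G : Type u} [Group G] [Finite G] [Fact p.Prime] (N : Subgroup G) [N.Normal] (n : ℕ) :
    (Cfsg.upperPSeries p G n).1.subgroupOf N ≤ (Cfsg.upperPSeries p ↥N n).1 := by
  induction n with
  | zero => exact fun x hx => Subgroup.mem_bot.2 (Subtype.ext (Subgroup.mem_bot.1 hx))
  | succ n ih =>
    refine le_upper_succ inferInstance fun x hx => ?_
    obtain ⟨m, hm, h1, h2⟩ := pow_mem_of_succ (Subgroup.mem_subgroupOf.1 hx)
    exact ⟨m, ih (show (x ^ m : N) ∈ _ from hm), h1, h2⟩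

theorem map_upper_le {G : Type u} [Group G] [Finite G] [Fact p.Prime] (N : Subgroup G) [N.Normal] (n : ℕ) :
    (Cfsg.upperPSeries p ↥N n).1.map N.subtype ≤ (Cfsg.upperPSeries p G n).1 := by
  induction n with
  | zero =>
    show (⊥ : Subgroup N).map N.subtype ≤ ⊥
    rw [Subgroup.map_bot]
  | succ n ih =>
    refine le_upper_succ ⟨?_⟩ ?_
    · rintro _ ⟨x, hx, rfl⟩ g
      refine ⟨MulAut.conjNormal g x, upperPSeries_le_comap (MulAut.conjNormal (H := N) g).toMonoidHom
        (MulEquiv.surjective _) (n + 1) hx, ?_⟩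
      exact MulAut.conjNormal_apply g x
    · rintro _ ⟨x, hx, rfl⟩
      obtain ⟨m, hm, h1, h2⟩ := pow_mem_of_succ hx
      exact ⟨m, ih ⟨_, hm, map_pow _ _ _⟩, h1, h2⟩

theorem pLengthLE_normal {G : Type u} [Group G] [Finite G] [Fact p.Prime] (N : Subgroup G) [N.Normal] {k : ℕ}
    (h : Cfsg.PLengthLE p k G) : Cfsg.PLengthLE p k ↥N := by
  have h' : (Cfsg.upperPSeries p G (2 * k + 1)).1 = ⊤ := h
  refine top_le_iff.1 ((le_of_eq ?_).trans (upper_inf_le N (2 * k + 1)))
  rw [h', Subgroup.top_subgroupOf]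

theorem pLengthLE_add {G : Type u} [Group G] [Finite G] [Fact p.Prime] (M : Subgroup G) [M.Normal] {a b : ℕ}
    (hM : M ≤ (Cfsg.upperPSeries p G (2 * a + 1)).1) (h : Cfsg.PLengthLE p b (G ⧸ M)) :
    Cfsg.PLengthLE p (a + b) G := by
  set f := QuotientGroup.mk' (Cfsg.upperPSeries p G (2 * a + 1)).1
  have key : ∀ n, (Cfsg.upperPSeries p (G ⧸ (Cfsg.upperPSeries p G (2 * a + 1)).1) (n + 1)).1.comap f ≤
      (Cfsg.upperPSeries p G (2 * a + n + 1)).1 := by
    intro n
    induction n with
    | zero =>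
      refine le_upper_of_coprime_pow inferInstance fun x hx => ?_
      obtain ⟨m, hm, hc, -⟩ := pow_mem_of_succ (Subgroup.mem_comap.1 hx)
      refine ⟨m, hc (by simp), (QuotientGroup.eq_one_iff _).1 ?_⟩
      have h1 : f (x ^ m) = 1 := by rw [map_pow]; exact Subgroup.mem_bot.1 hm
      exact h1
    | succ n ih =>
      refine le_upper_succ inferInstance fun x hx => ?_
      obtain ⟨m, hm, h1, h2⟩ := pow_mem_of_succ (Subgroup.mem_comap.1 hx)
      have hpar : Even (2 * a + n + 1) ↔ Even (n + 1) := by simp [Nat.even_add, add_assoc]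
      rw [← map_pow] at hm
      exact ⟨m, ih hm, fun h => h1 (hpar.1 h), fun h => h2 fun h' => h (hpar.2 h')⟩
  refine top_le_iff.1 ?_
  rw [show 2 * (a + b) + 1 = 2 * a + 2 * b + 1 by ring]
  refine le_trans ?_ (key (2 * b))
  let φ : G ⧸ M →* G ⧸ (Cfsg.upperPSeries p G (2 * a + 1)).1 := QuotientGroup.map M _ (MonoidHom.id G) hM
  have hφ : Function.Surjective φ := fun y => by
    obtain ⟨g, rfl⟩ := QuotientGroup.mk'_surjective _ y
    exact ⟨QuotientGroup.mk' M g, rfl⟩
  intro x _
  refine upperPSeries_le_comap φ hφ (2 * b + 1) (show QuotientGroup.mk' M x ∈ _ from ?_)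
  rw [show (Cfsg.upperPSeries p (G ⧸ M) (2 * b + 1)).1 = ⊤ from h]
  trivial

theorem main [hp : Fact p.Prime] {r : ℕ} (q : Fin r → ℕ) (hq : ∀ i, (q i).Prime ∧ q i ≠ p) :
    ∀ (n : ℕ) (G : Type u) [Group G] [Finite G], ∀ l : Fin r → ℕ, (Finset.univ.sum l) = n →
      (∀ s : ℕ, s.Prime → s ∣ Nat.card G → s ≠ p → ∃ i, q i = s) →
      (∀ i, Cfsg.PLengthLE (q i) (l i) G) → Cfsg.PLengthLE p (Finset.univ.prod fun i => 1 + l i) G := by
  intro n
  induction n using Nat.strong_induction_on with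
  | _ n IH =>
  intro G _ _ l hn hcover hl
  by_cases h0 : ∀ i, l i = 0
  · have hP : IsPGroup p G := IsPGroup.of_card (n := (Nat.card G).factorization p)
      (Nat.eq_pow_of_factorization_eq_single Nat.card_pos.ne' (Finsupp.ext fun s => by
        rcases eq_or_ne s p with rfl | hsp
        · simp
        rw [Finsupp.single_eq_of_ne hsp]
        by_contra hne
        have hs := Nat.prime_of_mem_primeFactors (Finsupp.mem_support_iff.2 hne)
        have hsd := Nat.dvd_of_mem_primeFactors (Finsupp.mem_support_iff.2 hne)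
        obtain ⟨i, rfl⟩ := hcover s hs hsd hsp
        haveI := Fact.mk hs
        have h1 : (Cfsg.upperPSeries (q i) G 1).1 = ⊤ := by
          have := hl i
          rwa [h0 i, Cfsg.PLengthLE, mul_zero, zero_add] at this
        rw [upperPSeries_one] at h1
        have h2 := not_dvd_card_pPrimeCore (q i) G
        rw [h1, Subgroup.card_top] at h2
        exact h2 hsd))
    have hprod : (Finset.univ.prod fun i => 1 + l i) = 1 := Finset.prod_eq_one fun i _ => by simp [h0 i]
    rw [hprod]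
    refine top_le_iff.1 (le_trans ?_ (le_upper_succ (n := 2) (L := ⊤) inferInstance fun x _ => ?_))
    · exact le_rfl
    · refine ⟨1, ?_, fun _ => Nat.coprime_one_left p, fun h => absurd (by decide) h⟩
      rw [pow_one]
      refine le_upper_succ (n := 1) (L := ⊤) inferInstance (fun y _ => ?_) trivial
      obtain ⟨k, hk⟩ := hP y
      exact ⟨p ^ k, by rw [hk]; exact one_mem _, fun h => absurd h (by decide), fun _ => ⟨k, rfl⟩⟩
  push Not at h0
  obtain ⟨i, hi⟩ := h0
  obtain ⟨m, hm⟩ := Nat.exists_eq_succ_of_ne_zero hi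
  haveI := Fact.mk (hq i).1
  set U1 := (Cfsg.upperPSeries (q i) G 1).1 with hU1
  set U2 := (Cfsg.upperPSeries (q i) G 2).1 with hU2
  -- the normal `q'`-subgroup
  have hsum : ∀ c, c ≤ m → (Finset.univ.sum (Function.update l i c)) < n := fun c hc => by
    rw [← hn]
    refine Finset.sum_lt_sum (fun j _ => ?_) ⟨i, Finset.mem_univ i, by rw [Function.update_self, hm]; omega⟩
    rcases eq_or_ne j i with rfl | hne
    · rw [Function.update_self, hm]; omega
    · rw [Function.update_of_ne hne]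
  have hA : Cfsg.PLengthLE p (Finset.univ.prod fun j => 1 + Function.update l i 0 j) ↥U1 := by
    refine IH _ (hsum 0 (Nat.zero_le m)) ↥U1 _ rfl
      (fun s hs hd => hcover s hs (hd.trans (Subgroup.card_subgroup_dvd_card U1))) fun j => ?_
    rcases eq_or_ne j i with rfl | hne
    · rw [Function.update_self]
      refine top_le_iff.1 ?_
      rw [mul_zero, zero_add, upperPSeries_one]
      refine le_pPrimeCore_of_not_dvd inferInstance ?_
      rw [Subgroup.card_top, hU1, upperPSeries_one]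
      exact not_dvd_card_pPrimeCore (q j) G
    · rw [Function.update_of_ne hne]
      haveI := Fact.mk (hq j).1
      exact pLengthLE_normal U1 (hl j)
  have hB : Cfsg.PLengthLE p (Finset.univ.prod fun j => 1 + Function.update l i m j) (G ⧸ U2) := by
    refine IH _ (hsum m le_rfl) (G ⧸ U2) _ rfl
      (fun s hs hd => hcover s hs (hd.trans (Subgroup.card_quotient_dvd_card U2))) fun j => ?_
    rcases eq_or_ne j i with rfl | hne
    · rw [Function.update_self]
      have h1 := hl j
      rw [hm, Cfsg.PLengthLE, show 2 * (m + 1) + 1 = 2 * m + 1 + 2 by ring, upperPSeries_add_two] at h1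
      exact Subgroup.comap_injective (QuotientGroup.mk'_surjective _) (h1.trans (Subgroup.comap_top _).symm)
    · rw [Function.update_of_ne hne]; exact pLengthLE_quotient (hl j) U2
  set a := Finset.univ.prod fun j => 1 + Function.update l i 0 j
  have hU1le : U1 ≤ (Cfsg.upperPSeries p G (2 * a + 1)).1 := by
    refine le_trans (le_of_eq ?_) (map_upper_le U1 (2 * a + 1))
    rw [show (Cfsg.upperPSeries p ↥U1 (2 * a + 1)).1 = ⊤ from hA, ← MonoidHom.range_eq_map, U1.range_subtype]
  have hU2le : U2 ≤ (Cfsg.upperPSeries p G (2 * a + 1)).1 := by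
    refine le_upper_of_coprime_pow inferInstance fun x hx => ?_
    obtain ⟨m', hm', -, h2⟩ := pow_mem_of_succ hx
    obtain ⟨k, rfl⟩ := h2 (by decide)
    exact ⟨q i ^ k, Nat.Coprime.pow_left k ((Nat.coprime_primes (hq i).1 hp.out).2 (hq i).2), hU1le hm'⟩
  have hsplit : ∀ c, (Finset.univ.prod fun j => 1 + Function.update l i c j) =
      (1 + c) * (Finset.univ.erase i).prod fun j => 1 + l j := fun c => by
    rw [← Finset.mul_prod_erase _ _ (Finset.mem_univ i), Function.update_self]
    congr 1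
    exact Finset.prod_congr rfl fun j hj => by rw [Function.update_of_ne (Finset.ne_of_mem_erase hj)]
  have he : (Finset.univ.prod fun j => 1 + l j) = a + Finset.univ.prod fun j => 1 + Function.update l i m j := by
    have := hsplit (l i)
    rw [Function.update_eq_self] at this
    rw [this, hm, hsplit m]
    simp only [a, hsplit 0, Nat.succ_eq_add_one]
    ring
  rw [he]
  exact pLengthLE_add U2 hU2le hB

end CfsgLib.PLengthProduct
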